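import Cfsg.Agent.Lib.AbelianSolvCent.Main
import Cfsg.Agent.Lib.Classical.Dickson.MinimalSimple
import Cfsg.Agent.Lib.Classical.PSLTwoSimple
import Cfsg.Agent.Lib.Classical.SmallIso
import Cfsg.Agent.Lib.Core.Basic

/-!
# An abelian Sylow 2-subgroup and an odd 2-complement force solvability (S4133)

Involution centralisers inherit the factorisation, so S3188 leaves `PSL(2, q)`, which has no subgroup
of odd order and 2-power index.
-/

set_option autoImplicit false
set_option linter.style.haveILetI false

namespace CfsgLib.AGroupClass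

open Subgroup CfsgLib.AbelianSolvCent

universe u

theorem card_mul_relIndex' {G : Type*} [Group G] {H K : Subgroup G} (h : H ≤ K) :
    Nat.card H * H.relIndex K = Nat.card K := by
  rw [← relIndex_bot_left, relIndex_mul_relIndex ⊥ H K bot_le h, relIndex_bot_left]

/-- The index of `H` in a normal subgroup divides its index. -/
theorem relIndex_dvd_of_normal {G : Type*} [Group G] [Finite G] (N : Subgroup G) [N.Normal] (H : Subgroup G) :
    H.relIndex N ∣ H.index := by
  have h1 := CfsgLib.Core.card_sup_mul_card_inf H N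
    (le_top.trans (le_of_eq (normalizer_eq_top N).symm))
  have h2 : H.relIndex N * Nat.card (H ⊓ N : Subgroup G) = Nat.card N := by
    rw [← inf_relIndex_right, Nat.mul_comm, card_mul_relIndex' inf_le_right]
  have h3 : Nat.card H * H.relIndex (H ⊔ N) = Nat.card (H ⊔ N : Subgroup G) :=
    card_mul_relIndex' le_sup_left
  have h4 : H.relIndex N = H.relIndex (H ⊔ N) := by
    refine Nat.eq_of_mul_eq_mul_right (Nat.card_pos (α := (H ⊓ N : Subgroup G))) ?_
    refine Nat.eq_of_mul_eq_mul_left (Nat.card_pos (α := H)) ?_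
    rw [h2, ← mul_assoc, h3, h1]
  rw [h4]
  exact Dvd.intro _ (relIndex_mul_index le_sup_left)

theorem exists_eq_two_pow_of_dvd {n k : ℕ} (h : n ∣ 2 ^ k) : ∃ j, n = 2 ^ j := by
  obtain ⟨j, -, hj⟩ := (Nat.dvd_prime_pow Nat.prime_two).1 h
  exact ⟨j, hj⟩

/-- A subgroup isomorphic to `PSL(2, q)` has no odd subgroup of 2-power index. -/
theorem psl_no_complement {N : Type*} [Group N] [Finite N] {F : Type} [Field F] [Fintype F]
    (hq : ((Fintype.card F % 8 = 3 ∨ Fintype.card F % 8 = 5) ∧ 5 ≤ Fintype.card F) ∨
      (∃ n : ℕ, 2 ≤ n ∧ Fintype.card F = 2 ^ n))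
    (e : N ≃* Matrix.ProjectiveSpecialLinearGroup (Fin 2) F)
    (H : Subgroup N) (hH : Odd (Nat.card H)) {k : ℕ} (hk : H.index = 2 ^ k) : False := by
  classical
  have h4 : 4 ≤ Fintype.card F := by
    rcases hq with ⟨-, h⟩ | ⟨n, hn, h⟩
    · omega
    · rw [h]; exact le_trans (by norm_num) (Nat.pow_le_pow_right two_pos hn)
  haveI := CfsgLib.Classical.isSimpleGroup_PSL_two h4
  have hns : ¬ Group.IsSolvable N := fun h => by
    haveI := h
    exact CfsgLib.Classical.Dickson.not_isSolvable_of_simple_noncomm
      (CfsgLib.Classical.Dickson.noncomm_psl h4) (Group.isSolvable_of_surjective e.surjective (f := e.toMonoidHom))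
  set H' := H.map e.toMonoidHom with hH'
  have hk' : H'.index = 2 ^ k := by
    rw [← hk, hH']; exact index_map_of_bijective (f := e.toMonoidHom) e.bijective H
  have hodd' : Odd (Nat.card H') := by
    rwa [hH', ← Nat.card_congr (H.equivMapOfInjective _ e.injective).toEquiv]
  have hdvd : 2 ^ k ∣ Nat.card (Matrix.ProjectiveSpecialLinearGroup (Fin 2) F) :=
    hk' ▸ index_dvd_card _
  have hcard := CfsgLib.Classical.Two.card_PSL_two (F := F)
  rcases hq with ⟨hmod, h5⟩ | ⟨n, hn, hF⟩
  · -- index at most four
    have hle : k ≤ 2 := by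
      by_contra hlt
      have h8 : 8 ∣ Nat.card (Matrix.ProjectiveSpecialLinearGroup (Fin 2) F) :=
        (pow_dvd_pow 2 (by omega : 3 ≤ k)).trans hdvd
      have h16 : 16 ∣ Fintype.card F * (Fintype.card F ^ 2 - 1) := by
        rw [← hcard]
        refine dvd_trans (dvd_of_eq (show 16 = 2 * 8 from rfl)) (Nat.mul_dvd_mul (dvd_of_eq ?_) h8)
        exact (Nat.gcd_eq_left (Nat.dvd_of_mod_eq_zero (by omega))).symm
      have hodd : Nat.Coprime 16 (Fintype.card F) :=
        (Nat.coprime_two_left.2 (Nat.odd_iff.2 (by omega))).pow_left 4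
      have h' := (hodd.dvd_of_dvd_mul_left h16)
      have hsq : Fintype.card F ^ 2 % 16 = 9 := by
        rw [Nat.pow_mod]
        rcases (by omega : Fintype.card F % 16 = 3 ∨ Fintype.card F % 16 = 5 ∨ Fintype.card F % 16 = 11 ∨
          Fintype.card F % 16 = 13) with h | h | h | h <;> rw [h]
      omega
    have hsmall : Nat.card (N ⧸ H) ≤ 4 := by
      rw [← index_eq_card, hk]
      exact le_trans (Nat.pow_le_pow_right two_pos hle) (by norm_num)
    letI := Fintype.ofFinite (N ⧸ H)
    obtain ⟨ι⟩ : Nonempty (N ⧸ H ↪ Fin 4) :=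
      Function.Embedding.nonempty_of_card_le (α := N ⧸ H) (β := Fin 4) (by
        rw [← Nat.card_eq_fintype_card, Fintype.card_fin]; exact hsmall)
    let f : N →* Equiv.Perm (Fin 4) :=
      (Equiv.Perm.viaEmbeddingHom ι).comp (MulAction.toPermHom N (N ⧸ H))
    have hker : f.ker ≤ H := by
      intro x hx
      have h1 : MulAction.toPermHom N (N ⧸ H) x = 1 :=
        Equiv.Perm.viaEmbeddingHom_injective ι (by rw [map_one]; exact hx)
      have h2 := Equiv.congr_fun h1 ((1 : N) : N ⧸ H)
      simp only [MulAction.toPermHom_apply, MulAction.toPerm_apply, Equiv.Perm.coe_one, id_eq,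
        MulAction.Quotient.smul_coe, smul_eq_mul, mul_one] at h2
      simpa using QuotientGroup.eq.1 h2.symm
    haveI : Group.IsSolvable f.ker := Cfsg.Agent.S0205.result (hH.of_dvd_nat (card_dvd_of_le hker))
    haveI : Group.IsSolvable (Equiv.Perm (Fin 4)) := CfsgLib.Classical.Dickson.isSolvable_perm_four
    exact hns (Group.isSolvable_of_ker_le_range f.ker.subtype f (by rw [range_subtype]))
  · -- index at most `q`
    have hqn : Fintype.card F ∉ ({2, 3, 5, 7, 9, 11} : Finset ℕ) := by
      rw [hF]
      have h2n : 4 ∣ 2 ^ n := dvd_trans (by norm_num) (pow_dvd_pow 2 hn)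
      simp only [Finset.mem_insert, Finset.mem_singleton, not_or]
      refine ⟨?_, ?_, ?_, ?_, ?_, ?_⟩ <;> intro h <;> rw [h] at h2n <;> norm_num at h2n
    have hne : H' ≠ ⊤ := fun h => by
      rw [h, Subgroup.card_top] at hodd'
      refine hodd'.not_two_dvd_nat ?_
      have hev : 2 ∣ Fintype.card F := hF ▸ dvd_pow_self 2 (by omega)
      rw [show Nat.gcd 2 (Fintype.card F - 1) = 1 from
        Nat.coprime_two_left.2 (Nat.odd_iff.2 (by omega)), one_mul] at hcard
      rw [hcard]
      exact hev.mul_right _
    have hge := (CfsgLib.Classical.Dickson.min_index rfl hqn).1 H' hne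
    have hd : 2 ^ k ∣ Fintype.card F := by
      rw [show Nat.gcd 2 (Fintype.card F - 1) = 1 from
        Nat.coprime_two_left.2 (Nat.odd_iff.2 (by
          have hev : 2 ∣ Fintype.card F := hF ▸ dvd_pow_self 2 (by omega)
          omega)), one_mul] at hcard
      rw [hcard] at hdvd
      refine Nat.Coprime.dvd_of_dvd_mul_right (Nat.Coprime.pow_left k (Nat.coprime_two_left.2 ?_)) hdvd
      rw [hF, ← pow_mul, mul_comm n 2]
      rcases Nat.exists_eq_succ_of_ne_zero (show 2 * n ≠ 0 by omega) with ⟨j, hj⟩
      rw [hj, pow_succ]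
      exact ⟨2 ^ j - 1, by have := Nat.one_le_two_pow (n := j); omega⟩
    have := Nat.le_of_dvd (by omega) hd
    omega

private theorem solvable_aux : ∀ (m : ℕ) (G : Type u) [Group G] [Finite G], Nat.card G = m →
    AbSylow G → ∀ (H : Subgroup G) (k : ℕ), Odd (Nat.card H) → H.index = 2 ^ k → Group.IsSolvable G := by
  intro m
  induction m using Nat.strong_induction_on with
  | _ m ih =>
  intro G _ _ hm hA H k hH hk
  classical
  haveI : Fact (Nat.Prime 2) := ⟨Nat.prime_two⟩
  by_contra hns
  -- the index is the full two part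
  have hcop : ∀ (K : Subgroup G), Odd (Nat.card K) → ∀ S : Sylow 2 G, (S : Subgroup G) ⊓ K = ⊥ :=
    fun K hK S => inf_eq_bot_of_coprime (by
      obtain ⟨j, hj⟩ := IsPGroup.iff_card.1 S.2
      rw [hj]
      exact Nat.Coprime.pow_left j (Nat.coprime_two_left.2 hK))
  have hC : SolvCent G := by
    intro t ht
    obtain ⟨S, htS⟩ := (CfsgLib.Signalizer.isPGroup_zpowers_involution ht).exists_le_sylow
    have hSC : (S : Subgroup G) ≤ centralizer ({t} : Set G) := fun s hs => mem_centralizer_singleton_iff.2
      (congrArg Subtype.val ((hA S).is_comm.comm ⟨s, hs⟩ ⟨t, htS (mem_zpowers t)⟩))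
    set C := centralizer ({t} : Set G) with hCdef
    by_cases htop : C = ⊤
    · -- central involution: pass to the quotient
      have hz : t ∈ center G := mem_center_iff.2 fun g =>
        mem_centralizer_singleton_iff.1 (htop ▸ mem_top g : g ∈ C)
      haveI : (zpowers t).Normal := ⟨fun n hn g => by
        have hc := mem_center_iff.1 (zpowers_le.2 hz hn) g
        rw [hc, mul_inv_cancel_right]; exact hn⟩
      haveI : Group.IsSolvable (G ⧸ zpowers t) := by
        have hlt : Nat.card (G ⧸ zpowers t) < m := by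
          rw [← index_eq_card, ← hm, ← (zpowers t).card_mul_index, Nat.card_zpowers, ht]
          have := Nat.pos_of_ne_zero (zpowers t).index_ne_zero_of_finite
          omega
        obtain ⟨j, hj⟩ := exists_eq_two_pow_of_dvd
          ((index_map_dvd H (f := QuotientGroup.mk' (zpowers t)) (QuotientGroup.mk'_surjective _)).trans
            (dvd_of_eq hk))
        exact ih _ hlt _ rfl (abSylow_of_surjective hA _ (QuotientGroup.mk'_surjective _)) _ j
          (hH.of_dvd_nat (H.card_map_dvd _)) hj
      haveI : Group.IsSolvable (zpowers t) := Group.isSolvable_of_comm fun a b =>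
        Subtype.ext (by
          obtain ⟨i, hi⟩ := a.2
          obtain ⟨j, hj⟩ := b.2
          show (a : G) * b = b * a
          rw [← hi, ← hj, ← zpow_add, ← zpow_add, add_comm])
      exact absurd (CfsgLib.OddGated.isSolvable_of_normal (zpowers t) inferInstance inferInstance) hns
    · have hlt : Nat.card C < m := hm ▸ CfsgLib.Components.card_lt_of_ne_top htop
      set K := H.subgroupOf C with hK
      have hKodd : Odd (Nat.card K) := by
        rw [hK, Nat.card_congr ((H.subgroupOf C).equivMapOfInjective _ C.subtype_injective).toEquiv,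
          subgroupOf_map_subtype]
        exact hH.of_dvd_nat (card_dvd_of_le inf_le_left)
      have hle : K.index ≤ 2 ^ k := by
        rw [← hk, ← relIndex_top_right (H := H)]
        exact relIndex_le_of_le_right le_top (by rw [relIndex_top_right]; exact H.index_ne_zero_of_finite)
      have hSd : Nat.card (S : Subgroup G) ∣ K.index := by
        refine Nat.Coprime.dvd_of_dvd_mul_left ?_ (K.card_mul_index.symm ▸ card_dvd_of_le hSC)
        obtain ⟨j, hj⟩ := IsPGroup.iff_card.1 S.2
        rw [hj]
        exact Nat.Coprime.pow_left j (Nat.coprime_two_left.2 hKodd)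
      have hkS : 2 ^ k ∣ Nat.card (S : Subgroup G) := by
        have h1 : 2 ^ k ∣ Nat.card G := hk ▸ index_dvd_card H
        obtain ⟨j, hj⟩ := IsPGroup.iff_card.1 S.2
        rw [← (S : Subgroup G).card_mul_index] at h1
        exact (Nat.Coprime.pow_left k (Nat.coprime_two_left.2 (Nat.odd_iff.2 (by
          have := S.not_dvd_index
          omega)))).dvd_of_dvd_mul_right h1
      have hpos : 0 < K.index := Nat.pos_of_ne_zero K.index_ne_zero_of_finite
      have hKk : K.index = 2 ^ k :=
        le_antisymm hle (Nat.le_of_dvd hpos (hkS.trans hSd))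
      exact ih _ hlt C rfl (abSylow_subgroup hA C) K k hKodd hKk
  obtain ⟨S⟩ := (inferInstance : Nonempty (Sylow 2 G))
  rcases CfsgLib.AbelianSolvCent.main S (hA S) hC with h | ⟨F, iF, iFt, hq, N, hN, ⟨e⟩, -⟩
  · exact hns h
  haveI := hN
  set π := QuotientGroup.mk' (Cfsg.oddCore G)
  set Hb := H.map π with hHb
  have h1 : Odd (Nat.card (Hb.subgroupOf N)) := by
    rw [Nat.card_congr ((Hb.subgroupOf N).equivMapOfInjective _ N.subtype_injective).toEquiv,
      subgroupOf_map_subtype]
    exact (hH.of_dvd_nat (H.card_map_dvd _)).of_dvd_nat (card_dvd_of_le inf_le_left)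
  obtain ⟨j, hj⟩ := exists_eq_two_pow_of_dvd (((relIndex_dvd_of_normal N Hb).trans
    (index_map_dvd H (f := π) (QuotientGroup.mk'_surjective _))).trans (dvd_of_eq hk))
  exact psl_no_complement hq e (Hb.subgroupOf N) h1 hj

/-- Abelian Sylow 2-subgroups and an odd subgroup of 2-power index: solvable. -/
theorem isSolvable_of_odd_complement {G : Type u} [Group G] [Finite G] (hA : AbSylow G)
    (H : Subgroup G) (hH : Odd (Nat.card H)) {k : ℕ} (hk : H.index = 2 ^ k) : Group.IsSolvable G :=
  solvable_aux _ G rfl hA H k hH hk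

end CfsgLib.AGroupClass
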