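import Cfsg.Agent.Lib.AGroupClass.Complement

/-!
# Perfect A-groups have no proper subgroup of 2-power index (S4133)

With trivial core the Sylow 2-subgroup, abelian and transitive on the cosets, is regular, so the subgroup
is an odd complement.
-/

set_option autoImplicit false
set_option linter.style.haveILetI false

namespace CfsgLib.AGroupClass

open Subgroup CfsgLib.AbelianSolvCent

universe u

variable {G : Type u} [Group G] [Finite G]

/-- A subgroup of 2-power index and an abelian Sylow 2-subgroup: they meet in the core. -/
theorem sylow_inf_le_core (hA : AbSylow G) (H : Subgroup G) {k : ℕ} (hk : H.index = 2 ^ k)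
    (S : Sylow 2 G) : (S : Subgroup G) ⊓ H ≤ H.normalCore := by
  haveI : Fact (Nat.Prime 2) := ⟨Nat.prime_two⟩
  -- the Sylow subgroup is transitive on the cosets
  have hrel : H.relIndex (S : Subgroup G) = 2 ^ k := by
    refine le_antisymm ?_ ?_
    · rw [← hk, ← relIndex_top_right (H := H)]
      exact relIndex_le_of_le_right le_top (by rw [relIndex_top_right]; exact H.index_ne_zero_of_finite)
    · have h1 : H.index * (((S : Subgroup G) ⊓ H).relIndex H) =
          ((S : Subgroup G) ⊓ H).relIndex (S : Subgroup G) * (S : Subgroup G).index := by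
        rw [relIndex_mul_index inf_le_left, mul_comm, relIndex_mul_index inf_le_right]
      rw [inf_comm, inf_relIndex_right, hk] at h1
      obtain ⟨j, hj⟩ := IsPGroup.iff_card.1 S.2
      obtain ⟨i, hi⟩ := exists_eq_two_pow_of_dvd (hj ▸ (H.relIndex_dvd_card (K := (S : Subgroup G))))
      rw [hi] at h1 ⊢
      refine Nat.le_of_dvd (by positivity) ?_
      exact (Nat.Coprime.pow_left k (Nat.coprime_two_left.2 (Nat.odd_iff.2 (by
        have := S.not_dvd_index
        omega)))).dvd_of_dvd_mul_right (h1 ▸ Dvd.intro _ rfl)
  have htr : Function.Surjective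
      (fun s : (S : Subgroup G) ⧸ H.subgroupOf (S : Subgroup G) =>
        Quotient.map' (s₁ := QuotientGroup.leftRel (H.subgroupOf (S : Subgroup G)))
          (s₂ := QuotientGroup.leftRel H) (fun x : (S : Subgroup G) => (x : G))
          (fun a b hab => by
            rw [QuotientGroup.leftRel_apply] at hab ⊢
            exact mem_subgroupOf.1 hab) s) := by
    refine (Nat.bijective_iff_injective_and_card _).2 ⟨?_, ?_⟩ |>.2
    · intro a b
      induction a using Quotient.inductionOn'
      induction b using Quotient.inductionOn'
      intro h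
      have h' := QuotientGroup.eq.1 h
      exact QuotientGroup.eq.2 (mem_subgroupOf.2 h')
    · show Nat.card ((S : Subgroup G) ⧸ H.subgroupOf (S : Subgroup G)) = Nat.card (G ⧸ H)
      rw [← index_eq_card, ← index_eq_card, hk]; exact hrel
  intro d hd g
  obtain ⟨s, hs⟩ := htr ((g⁻¹ : G) : G ⧸ H)
  induction s using Quotient.inductionOn' with
  | _ s =>
    have h2 : (s : G)⁻¹ * g⁻¹ ∈ H := QuotientGroup.eq.1 hs
    have hds : (s : G)⁻¹ * d * s = d := by
      rw [mul_assoc, show d * (s : G) = s * d from congrArg Subtype.val ((hA S).is_comm.comm ⟨d, hd.1⟩ s),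
        inv_mul_cancel_left]
    have := mul_mem (mul_mem (inv_mem h2) (hds.symm ▸ hd.2 : (s : G)⁻¹ * d * s ∈ H)) h2
    simpa [mul_assoc] using this

private theorem eq_top_aux : ∀ (m : ℕ) (G : Type u) [Group G] [Finite G], Nat.card G = m →
    AbSylow G → commutator G = ⊤ → ∀ (H : Subgroup G) (k : ℕ), H.index = 2 ^ k → H = ⊤ := by
  intro m
  induction m using Nat.strong_induction_on with
  | _ m ih =>
  intro G _ _ hm hA hperf H k hk
  classical
  by_cases hN : H.normalCore = ⊥
  · haveI : Fact (Nat.Prime 2) := ⟨Nat.prime_two⟩
    obtain ⟨S⟩ := (inferInstance : Nonempty (Sylow 2 G))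
    have hH : Odd (Nat.card H) := by
      rw [← Nat.not_even_iff_odd, even_iff_two_dvd]
      intro h2
      obtain ⟨x, hx⟩ := exists_prime_orderOf_dvd_card' 2 h2
      have hxo : orderOf (x : G) = 2 := by rw [Subgroup.orderOf_coe, hx]
      obtain ⟨T, hxT⟩ := (CfsgLib.Signalizer.isPGroup_zpowers_involution hxo).exists_le_sylow
      have h1 := sylow_inf_le_core hA H hk T ⟨hxT (mem_zpowers _), x.2⟩
      rw [hN, mem_bot] at h1
      rw [h1, orderOf_one] at hxo
      norm_num at hxo
    haveI := isSolvable_of_odd_complement hA H hH hk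
    rw [← Subgroup.index_eq_one]
    haveI : Subsingleton G := by
      by_contra hsub
      haveI := not_subsingleton_iff_nontrivial.1 hsub
      exact (Group.IsSolvable.commutator_lt_top_of_nontrivial (G := G)).ne hperf
    exact Nat.card_unique
  · set N := H.normalCore
    haveI : N.Normal := H.normalCore_normal
    have hlt : Nat.card (G ⧸ N) < m := hm ▸ CfsgLib.Components.card_quotient_lt hN
    have hker : (QuotientGroup.mk' N).ker ≤ H := by rw [QuotientGroup.ker_mk']; exact H.normalCore_le
    have hidx := H.index_map_eq (QuotientGroup.mk'_surjective N) hker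
    have h := ih _ hlt (G ⧸ N) rfl (abSylow_of_surjective hA _ (QuotientGroup.mk'_surjective _))
      (by
        rw [← top_le_iff, ← Subgroup.map_top_of_surjective _ (QuotientGroup.mk'_surjective N), ← hperf,
          commutator_def, commutator_def, Subgroup.map_commutator]
        exact commutator_mono le_top le_top)
      (H.map (QuotientGroup.mk' N)) k (hidx.trans hk)
    rw [← index_eq_one, ← hidx, h, index_top]

/-- A perfect group with abelian Sylow 2-subgroups has no proper subgroup of 2-power index. -/
theorem eq_top_of_two_power_index (hA : AbSylow G) (hperf : commutator G = ⊤) (H : Subgroup G)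
    {k : ℕ} (hk : H.index = 2 ^ k) : H = ⊤ :=
  eq_top_aux _ G rfl hA hperf H k hk

end CfsgLib.AGroupClass
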