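import Cfsg.Agent.Lib.AGroupClass.Index
import Cfsg.Agent.Lib.LocalEvenB.BaerSuzuki
import Cfsg.Agent.Lib.Transfer.Abelian
import Cfsg.Agent.Lib.Core.Cores

/-!
# A-groups with an element of maximal 2-power class size are solvable (S4133)

The perfect residual centralises the element `x`; for an element `h` of the residual inverted by one
of its involutions the class of `x h` has bigger 2-part.
-/

set_option autoImplicit false
set_option linter.style.haveILetI false

namespace CfsgLib.AGroupClass

open Subgroup CfsgLib.AbelianSolvCent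

universe u

variable {G : Type u} [Group G] [Finite G]

/-- A perfect normal subgroup of a non-solvable group. -/
theorem exists_perfect (hns : ¬ Group.IsSolvable G) :
    ∃ L : Subgroup G, L.Normal ∧ L ≠ ⊥ ∧ commutator L = ⊤ := by
  classical
  obtain ⟨k, hk⟩ : ∃ k, derivedSeries G (k + 1) = derivedSeries G k := by
    by_contra hne
    push Not at hne
    have hstrict : ∀ k, Nat.card (derivedSeries G (k + 1)) < Nat.card (derivedSeries G k) := fun k => by
      have hle : derivedSeries G (k + 1) ≤ derivedSeries G k := by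
        rw [derivedSeries_succ]
        exact commutator_le_self _
      exact (card_le_of_le hle).lt_of_ne fun e => hne k (eq_of_le_of_card_ge hle e.ge)
    have hdec : ∀ k, Nat.card (derivedSeries G k) + k ≤ Nat.card (derivedSeries G 0) := by
      intro k
      induction k with
      | zero => simp
      | succ k ih => have := hstrict k; omega
    have := hdec (Nat.card (derivedSeries G 0))
    have := Nat.card_pos (α := derivedSeries G (Nat.card (derivedSeries G 0)))
    omega
  refine ⟨derivedSeries G k, derivedSeries_normal _ k, fun h => hns ?_, ?_⟩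
  · exact (Group.isSolvable_def G).2 ⟨k, h⟩
  · refine Subgroup.map_injective (derivedSeries G k).subtype_injective ?_
    rw [← MonoidHom.range_eq_map, range_subtype, map_subtype_commutator, ← derivedSeries_succ, hk]

/-- The centre of a perfect A-group is trivial. -/
theorem center_eq_bot {L : Type*} [Group L] [Finite L]
    (hA : ∀ (p : ℕ) [Fact p.Prime] (P : Sylow p L), IsMulCommutative ↥(P : Subgroup L))
    (hperf : commutator L = ⊤) : center L = ⊥ := by
  by_contra hne
  obtain ⟨p, hp, hd⟩ := Nat.exists_prime_and_dvd (n := Nat.card (center L))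
    fun h => hne (Subgroup.eq_bot_of_card_eq _ h)
  haveI := Fact.mk hp
  obtain ⟨z, hz⟩ := exists_prime_orderOf_dvd_card' p hd
  have hzp : IsPGroup p (zpowers (z : L)) := IsPGroup.of_card (n := 1) (by
    rw [Nat.card_zpowers, Subgroup.orderOf_coe, hz, pow_one])
  obtain ⟨P, hP⟩ := hzp.exists_le_sylow
  haveI := hA p P
  have h := CfsgLib.Transfer.inf_commutator_inf_center_eq_bot (P : Subgroup L) (P.card_coprime_index)
  have hmem : (z : L) ∈ (P : Subgroup L) ⊓ commutator L ⊓ center L :=
    ⟨⟨hP (mem_zpowers _), hperf ▸ mem_top _⟩, z.2⟩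
  rw [h, mem_bot] at hmem
  rw [Subtype.ext (a2 := (1 : center L)) hmem, orderOf_one] at hz
  exact hp.ne_one hz.symm

/-- A perfect A-group has trivial 2-core. -/
theorem pCore_eq_bot {L : Type*} [Group L] [Finite L]
    (hA : ∀ (p : ℕ) [Fact p.Prime] (P : Sylow p L), IsMulCommutative ↥(P : Subgroup L))
    (hperf : commutator L = ⊤) : Cfsg.pCore 2 L = ⊥ := by
  haveI : Fact (Nat.Prime 2) := ⟨Nat.prime_two⟩
  rw [eq_bot_iff, ← center_eq_bot hA hperf]
  obtain ⟨S⟩ := (inferInstance : Nonempty (Sylow 2 L))
  set C := centralizer (Cfsg.pCore 2 L : Set L) with hC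
  have hSC : (S : Subgroup L) ≤ C := fun a ha => mem_centralizer_iff.2 fun m hm =>
    congrArg Subtype.val ((hA 2 S).is_comm.comm ⟨m, CfsgLib.Core.pCore_le_sylow S hm⟩ ⟨a, ha⟩)
  haveI : C.Normal := inferInstance
  haveI : Group.IsSolvable (L ⧸ C) := Cfsg.Agent.S0205.result (by
    rw [← Subgroup.index_eq_card, Nat.odd_iff]
    have : ¬ 2 ∣ C.index := fun h => S.not_dvd_index (h.trans (Subgroup.index_dvd_of_le hSC))
    omega)
  have htop : C = ⊤ := by
    by_contra hne
    haveI : Nontrivial (L ⧸ C) := QuotientGroup.nontrivial_iff.2 hne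
    refine (Group.IsSolvable.commutator_lt_top_of_nontrivial (G := L ⧸ C)).ne ?_
    rw [← top_le_iff, ← Subgroup.map_top_of_surjective _ (QuotientGroup.mk'_surjective C), ← hperf,
      commutator_def, commutator_def, Subgroup.map_commutator]
    exact commutator_mono le_top le_top
  intro m hm
  exact mem_center_iff.2 fun g => (mem_centralizer_iff.1 (htop ▸ mem_top g : g ∈ C) m hm).symm

/-- S4133. -/
theorem isSolvable_of_class
    (hA : ∀ (p : ℕ) [Fact p.Prime] (P : Sylow p G), IsMulCommutative (P : Subgroup G)) (a : ℕ)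
    (hmax : ∀ y : G, ¬ 2 ^ (a + 1) ∣ (centralizer ({y} : Set G)).index)
    {x : G} (hx : (centralizer ({x} : Set G)).index = 2 ^ a) : Group.IsSolvable G := by
  by_contra hns
  haveI : Fact (Nat.Prime 2) := ⟨Nat.prime_two⟩
  obtain ⟨L, hL, hL1, hperf⟩ := exists_perfect hns
  haveI := hL
  have hAL : ∀ (p : ℕ) [Fact p.Prime] (P : Sylow p L), IsMulCommutative ↥(P : Subgroup L) := by
    intro p _ P
    obtain ⟨S, hPS⟩ := (P.2.map L.subtype).exists_le_sylow
    refine ⟨⟨fun b c => Subtype.ext (L.subtype_injective ?_)⟩⟩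
    rw [Subgroup.coe_mul, Subgroup.coe_mul, map_mul, map_mul]
    exact congrArg Subtype.val ((hA p S).is_comm.comm ⟨_, hPS ⟨b, b.2, rfl⟩⟩ ⟨_, hPS ⟨c, c.2, rfl⟩⟩)
  set C := centralizer ({x} : Set G) with hCdef
  -- the residual centralises `x`
  have hLC : L ≤ C := by
    rw [← subgroupOf_eq_top]
    obtain ⟨j, hj⟩ := exists_eq_two_pow_of_dvd ((relIndex_dvd_of_normal L C).trans (dvd_of_eq hx))
    exact eq_top_of_two_power_index (fun P => hAL 2 P) hperf _ hj
  have hxL : ∀ l ∈ L, l * x = x * l := fun l hl => mem_centralizer_singleton_iff.1 (hLC hl)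
  -- an involution and an inverted element
  obtain ⟨t, ht⟩ := exists_involution (H := L) (fun h => by
    haveI := h
    haveI : Nontrivial L := L.nontrivial_iff_ne_bot.mpr hL1
    exact (Group.IsSolvable.commutator_lt_top_of_nontrivial (G := L)).ne hperf)
  have htO : t ∉ Cfsg.pCore 2 L := fun h => by
    rw [pCore_eq_bot hAL hperf, mem_bot] at h
    rw [h, orderOf_one] at ht
    norm_num at ht
  obtain ⟨h, hh1, hhodd, hinv⟩ := CfsgLib.LocalEvenB.exists_odd_inverted
    (by rw [← pow_two, ← ht, pow_orderOf_eq_one]) htO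
  set y := x * (h : G)
  set D := C ⊓ centralizer ({(h : G)} : Set G) with hD
  -- the decomposition of `y` is unique
  have hyD : centralizer ({y} : Set G) ≤ D := by
    intro g hg
    have hg' : g * x * g⁻¹ * (g * h * g⁻¹) = x * h := by
      have := mem_centralizer_singleton_iff.1 hg
      calc g * x * g⁻¹ * (g * h * g⁻¹) = g * y * g⁻¹ := by simp [y, mul_assoc]
        _ = x * h := by rw [this, mul_inv_cancel_right]
    set c := g * (h : G) * g⁻¹ * (h : G)⁻¹ with hc
    have hcL : c ∈ L := mul_mem (hL.conj_mem _ h.2 g) (inv_mem h.2)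
    have hc' : c = (g * x * g⁻¹)⁻¹ * x := by
      have he : g * h * g⁻¹ = (g * x * g⁻¹)⁻¹ * (x * h) := by rw [← hg', inv_mul_cancel_left]
      rw [hc, he]
      group
    have hxC : x ∈ centralizer (L : Set G) := mem_centralizer_iff.2 hxL
    have hcC : c ∈ centralizer (L : Set G) := by
      rw [hc']
      exact mul_mem (inv_mem ((inferInstance : (centralizer (L : Set G)).Normal).conj_mem x hxC g)) hxC
    have hc1 : c = 1 := by
      have hmem : (⟨c, hcL⟩ : L) ∈ center L := mem_center_iff.2 fun l => Subtype.ext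
        (mem_centralizer_iff.1 hcC l l.2)
      rw [center_eq_bot hAL hperf, mem_bot] at hmem
      exact congrArg Subtype.val hmem
    refine ⟨mem_centralizer_singleton_iff.2 ?_, mem_centralizer_singleton_iff.2 ?_⟩
    · have : g * x * g⁻¹ = x := by
        rw [hc1] at hc'
        exact inv_mul_eq_one.1 hc'.symm
      exact mul_inv_eq_iff_eq_mul.1 this
    · have : g * h * g⁻¹ = h := mul_inv_eq_one.1 hc1
      exact mul_inv_eq_iff_eq_mul.1 this
  -- `t` doubles `D`
  have ht2 : orderOf (t : G) = 2 := by rw [Subgroup.orderOf_coe]; exact ht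
  have hinv' : (t : G) * h * (t : G)⁻¹ = (h : G)⁻¹ := congrArg Subtype.val hinv
  have htD : (t : G) ∉ D := fun hm => by
    have h2 := mem_centralizer_singleton_iff.1 hm.2
    rw [h2, mul_inv_cancel_right] at hinv'
    have h3 : (h : G) ^ 2 = 1 := by rw [pow_two]; nth_rw 2 [hinv']; exact mul_inv_cancel _
    have h4 : orderOf h ∣ 2 := orderOf_dvd_of_pow_eq_one (Subtype.ext h3)
    rcases (Nat.dvd_prime Nat.prime_two).1 h4 with e | e
    · exact hh1 (orderOf_eq_one_iff.1 e)
    · rw [e] at hhodd; exact absurd hhodd (by decide)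
  have htC : (t : G) ∈ C := hLC t.2
  have hn : zpowers (t : G) ≤ normalizer (D : Set G) := by
    rw [zpowers_le, mem_normalizer_iff]
    have key : ∀ n : G, n ∈ D → (t : G) * n * (t : G)⁻¹ ∈ D := by
      rintro n ⟨h1, h2⟩
      refine ⟨(mul_mem (mul_mem htC h1) (inv_mem htC) : _ ∈ C), mem_centralizer_singleton_iff.2 ?_⟩
      have h2' : Commute n ((h : G)⁻¹) := (show Commute n (h : G) from
        mem_centralizer_singleton_iff.1 h2).inv_right
      have := h2'.map (MulAut.conj (t : G)).toMonoidHom
      simp only [MulEquiv.coe_toMonoidHom, MulAut.conj_apply] at this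
      rw [show (t : G) * (h : G)⁻¹ * (t : G)⁻¹ = (h : G) by
        simpa [mul_assoc] using congrArg (fun w : G => w⁻¹) hinv'] at this
      exact this.eq
    intro n
    refine ⟨key n, fun hmem => ?_⟩
    have := key _ hmem
    rwa [show (t : G) * ((t : G) * n * (t : G)⁻¹) * (t : G)⁻¹ = n by
      rw [CfsgLib.Signalizer.involution_inv ht2, ← mul_assoc, ← mul_assoc,
        CfsgLib.Signalizer.involution_sq ht2, one_mul, mul_assoc, CfsgLib.Signalizer.involution_sq ht2,
        mul_one]] at this
  have hcard := CfsgLib.Core.card_sup_mul_card_inf (zpowers (t : G)) D hn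
  have hinf : zpowers (t : G) ⊓ D = ⊥ := by
    refine (eq_bot_iff_forall _).2 fun z hz => ?_
    obtain ⟨i, hi⟩ := hz.1
    rcases Int.even_or_odd i with ⟨j, rfl⟩ | ⟨j, rfl⟩
    · rw [← hi]
      show (t : G) ^ (j + j) = 1
      rw [← two_mul, zpow_mul, zpow_ofNat, pow_two, CfsgLib.Signalizer.involution_sq ht2, one_zpow]
    · exfalso
      refine htD ?_
      have e : (t : G) ^ (2 * j + 1) = t := by
        rw [zpow_add_one, zpow_mul, zpow_ofNat, pow_two, CfsgLib.Signalizer.involution_sq ht2, one_zpow,
          one_mul]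
      have hzt : z = (t : G) := hi.symm.trans e
      exact hzt ▸ hz.2
  rw [hinf, Subgroup.card_bot, mul_one, Nat.card_zpowers, ht2] at hcard
  have h2D : 2 * Nat.card D ∣ Nat.card C :=
    hcard ▸ card_dvd_of_le (sup_le (zpowers_le.2 htC) inf_le_left)
  -- the class of `y` is too big
  refine hmax y (dvd_trans ?_ (index_dvd_of_le hyD))
  rw [← relIndex_mul_index (inf_le_left : D ≤ C), hx, pow_succ, mul_comm]
  refine Nat.mul_dvd_mul_right ?_ _
  rw [← card_mul_relIndex' (inf_le_left : D ≤ C), mul_comm 2] at h2D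
  exact Nat.dvd_of_mul_dvd_mul_left Nat.card_pos h2D

end CfsgLib.AGroupClass
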